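import Groth.Agent.Lib.CurveExt19.Main
import Groth.Agent.Lib.FinBirat24.Main
import Groth.Agent.Lib.AmpleFin18.PushEuler
import Groth.Agent.Lib.CurveConn25.Discrete
import Groth.Agent.Lib.EtStalk.Henselian
import Groth.Agent.Lib.TFNorm27.Main
import Groth.Agent.Lib.NormRed18.BranchScheme
import Groth.Agent.Lib.StabUniq18.Stalk
import Groth.Agent.S1585

/-!
# `H¹(μ_n)` of the normalisation of a curve with one node
-/

set_option autoImplicit false
set_option linter.style.haveILetI false
set_option linter.unusedSectionVars false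
set_option backward.isDefEq.respectTransparency.types false
set_option maxHeartbeats 1000000

universe u

open CategoryTheory CategoryTheory.Limits AlgebraicGeometry Opposite CategoryTheory.Abelian

noncomputable section

namespace Groth.Agent.OneNode19

open Groth.Agent EtStalk

variable {k : Type u} [Field k] [IsAlgClosed k]

/-- A morphism from the spectrum of a field hitting a closed point factors through the rational point. -/
theorem eq_comp_point {Y : Scheme.{u}} (f : Y ⟶ Spec (CommRingCat.of k)) [LocallyOfFiniteType f] [IsSeparated f]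
    {y : Y} (hy : IsClosed ({y} : Set Y)) {Ω : Type u} [Field Ω] (l : Spec (CommRingCat.of Ω) ⟶ Y)
    (hl : l default = y) : l = (l ≫ f) ≫ pointOfClosedPoint f y hy := by
  let s := pointOfClosedPoint f y hy
  haveI : IsClosedImmersion (s ≫ f) := by rw [pointOfClosedPoint_comp]; infer_instance
  haveI : IsClosedImmersion s := IsClosedImmersion.of_comp s f
  haveI : IsClosedImmersion (pullback.fst l s) := MorphismProperty.pullback_fst _ _ ‹IsClosedImmersion s›
  haveI : Surjective (pullback.fst l s) := ⟨fun a => by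
    have h : a ∈ Set.range (pullback.fst l s) := by
      rw [Scheme.Pullback.range_fst]
      exact ⟨IsLocalRing.closedPoint k, by
        rw [Subsingleton.elim a default, hl]; exact pointOfClosedPoint_apply f y hy _⟩
    exact h⟩
  haveI : IsReduced (Spec (CommRingCat.of Ω)) := inferInstance
  haveI : IsIso (pullback.fst l s) := isIso_of_isClosedImmersion_of_surjective _
  have e : l = (inv (pullback.fst l s) ≫ pullback.snd l s) ≫ s := by
    rw [Category.assoc, ← pullback.condition, IsIso.inv_hom_id_assoc]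
  have e' : l ≫ f = inv (pullback.fst l s) ≫ pullback.snd l s := by
    conv_lhs => rw [e]
    rw [Category.assoc, pointOfClosedPoint_comp, Category.comp_id]
  rw [e']
  exact e

variable {X X' : Scheme.{u}} (f : X ⟶ Spec (CommRingCat.of k)) [LocallyOfFiniteType f] [IsSeparated f]
  (ν : X' ⟶ X) [IsFinite ν] {x : X} (hx : IsClosed ({x} : Set X))

include f hx in
theorem isClosed_lift {z : X'} (hz : ν z = x) : IsClosed ({z} : Set X') :=
  CurveExt19.isClosed_singleton_of_finite (ν ≫ f) (S := ν ⁻¹' {x}) (hx.preimage ν.continuous)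
    (ν.finite_preimage_singleton x) hz

include f hx in
/-- The geometric points above a geometric point over a closed point are the points above it. -/
def liftsEquiv {Ω : Type u} [Field Ω] (η : Spec (CommRingCat.of Ω) ⟶ X) (hη : η default = x) :
    fLifts ν η ≃ {z : X' // ν z = x} where
  toFun l := ⟨l.1 default, by rw [← Scheme.Hom.comp_apply, l.2, hη]⟩
  invFun z := ⟨(η ≫ f) ≫ pointOfClosedPoint (ν ≫ f) z.1 (isClosed_lift f ν hx z.2), by
    have h := eq_comp_point f hx (pointOfClosedPoint (ν ≫ f) z.1 (isClosed_lift f ν hx z.2) ≫ ν)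
      (by rw [Scheme.Hom.comp_apply, pointOfClosedPoint_apply]; exact z.2)
    have hc : (pointOfClosedPoint (ν ≫ f) z.1 (isClosed_lift f ν hx z.2) ≫ ν) ≫ f = 𝟙 _ :=
      (Category.assoc _ _ _).trans (pointOfClosedPoint_comp _ _ _)
    rw [hc, Category.id_comp] at h
    rw [Category.assoc, h]
    exact (eq_comp_point f hx η hη).symm⟩
  left_inv l := Subtype.ext (by
    have h := eq_comp_point (ν ≫ f) (isClosed_lift f ν hx (z := l.1 default) (by
      rw [← Scheme.Hom.comp_apply, l.2, hη])) l.1 rfl
    exact (h.trans (congrArg (· ≫ _) ((Category.assoc _ _ _).symm.trans (congrArg (· ≫ f) l.2)))).symm)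
  right_inv z := Subtype.ext (by dsimp only; rw [Scheme.Hom.comp_apply]; exact pointOfClosedPoint_apply _ _ _ _)

/-- The residue field of an algebraically closed field. -/
instance isAlgClosed_residueField : IsAlgClosed (IsLocalRing.ResidueField k) :=
  IsAlgClosed.of_ringEquiv k _
    (RingEquiv.ofBijective (IsLocalRing.residue k) ⟨(IsLocalRing.residue k).injective, IsLocalRing.residue_surjective⟩)

/-- Global sections over the spectrum of an algebraically closed field. -/
theorem card_H0_point (Q : EtCoh.Ab (Spec (CommRingCat.of k))) :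
    Nat.card (EtCoh.H (Spec (CommRingCat.of k)) Q 0) = Nat.card ((EtCoh.stalk (closedPt k)).obj Q) := by
  rw [Nat.card_congr (PointLim24.H0Sec _ Q)]
  exact Nat.card_eq_of_bijective _ (bijective_germ_top k Q)

/-- The stalks of a constant sheaf. -/
theorem card_stalk_const {Ω : Type u} [Field Ω] [IsSepClosed Ω] (η : Spec (CommRingCat.of Ω) ⟶ X) (M : Type)
    [AddCommGroup M] : Nat.card ((EtCoh.stalk η).obj (EtCoh.const X M)) = Nat.card M :=
  (Nat.card_eq_of_bijective _ (LocConst24.bijAt_constSec X M (EtCoh.top X) Ω η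
    (Over.homMk η (Category.comp_id _)))).symm

theorem card_stalk_iso {Ω : Type u} [Field Ω] [IsSepClosed Ω] (η : Spec (CommRingCat.of Ω) ⟶ X) {F G : EtCoh.Ab X}
    (e : F ≅ G) : Nat.card ((EtCoh.stalk η).obj F) = Nat.card ((EtCoh.stalk η).obj G) :=
  Nat.card_eq_of_bijective _ (ConcreteCategory.bijective_of_isIso ((EtCoh.stalk η).map e.hom))

include f hx in
/-- The stalk of the direct image of an inverse image along a finite morphism, over a closed point. -/
theorem card_stalk_push_pull {Ω : Type u} [Field Ω] [IsAlgClosed Ω] (η : Spec (CommRingCat.of Ω) ⟶ X)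
    (hη : η default = x) (F : EtCoh.Ab X) :
    Nat.card ((EtCoh.stalk η).obj ((EtCoh.push ν).obj ((EtCoh.pull ν).obj F))) =
      Nat.card ((EtCoh.stalk η).obj F) ^ Nat.card {z : X' // ν z = x} := by
  haveI : Finite {z : X' // ν z = x} := (ν.finite_preimage_singleton x).to_subtype
  haveI : Finite (fLifts ν η) := Finite.of_equiv _ (liftsEquiv f ν hx η hη).symm
  haveI := Fintype.ofFinite (fLifts ν η)
  rw [Nat.card_congr (Equiv.ofBijective _ (bijective_liftStalk ν η ((EtCoh.pull ν).obj F))), Nat.card_pi,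
    Finset.prod_congr rfl fun l _ => show Nat.card ((EtCoh.stalk l.1).obj ((EtCoh.pull ν).obj F)) =
      Nat.card ((EtCoh.stalk η).obj F) from by
        rw [← Nat.card_eq_of_bijective _ (ConcreteCategory.bijective_of_isIso (stalkPull ν l.1 F)), l.2],
    Finset.prod_const, Finset.card_univ, ← Nat.card_eq_fintype_card,
    Nat.card_congr (liftsEquiv f ν hx η hη)]

include f hx in
/-- A sheaf living at one closed point has the stalk there as global sections. -/
theorem card_H0_single (P : EtCoh.Ab X)
    (hP : ∀ (Ω : Type u) [Field Ω] [IsAlgClosed Ω] (ξ : Spec (CommRingCat.of Ω) ⟶ X), ξ default ≠ x →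
      Subsingleton ((EtCoh.stalk ξ).obj P)) :
    Nat.card (EtCoh.H X P 0) = Nat.card ((EtCoh.stalk (closedPt k ≫ pointOfClosedPoint f x hx)).obj P) := by
  let i := pointOfClosedPoint f x hx
  haveI : IsClosedImmersion (i ≫ f) := by rw [pointOfClosedPoint_comp]; infer_instance
  haveI : IsClosedImmersion i := IsClosedImmersion.of_comp i f
  haveI : IsFinite i := inferInstance
  let a := (EtCoh.pullPushAdj i).unit.app P
  haveI : IsIso a := (isIso_iff_stalk_alg a).2 fun Ω _ _ ξ => by
    by_cases hξ : ξ default = x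
    · have h : ξ = (ξ ≫ f) ≫ i := eq_comp_point f hx ξ hξ
      rw [h]
      exact FinBirat24.bijective_stalk_unit i (ξ ≫ f) (fun l' hl' => (cancel_mono i).1 hl') P
    · have hs : Subsingleton ((EtCoh.stalk ξ).obj ((EtCoh.push i).obj ((EtCoh.pull i).obj P))) :=
        ⟨fun p q => injective_liftStalk i ξ _ (funext fun l => absurd (by
          rw [← l.2, Scheme.Hom.comp_apply]; exact pointOfClosedPoint_apply f x hx _) hξ)⟩
      haveI : Subsingleton ((EtCoh.stalk ξ).obj ((𝟭 (EtCoh.Ab X)).obj P)) := hP Ω ξ hξ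
      haveI : Subsingleton ((EtCoh.stalk ξ).obj ((EtCoh.pull i ⋙ EtCoh.push i).obj P)) := hs
      exact ⟨fun p q _ => Subsingleton.elim p q, fun y => ⟨0, Subsingleton.elim _ _⟩⟩
  rw [CurveExt19.card_H_of_iso (asIso a : P ≅ (EtCoh.push i).obj ((EtCoh.pull i).obj P)) 0,
    Nat.card_eq_of_bijective _ (FieldH25.bijective_HofPush_integral i ((EtCoh.pull i).obj P) 0), card_H0_point]
  exact (Nat.card_eq_of_bijective _ (ConcreteCategory.bijective_of_isIso (stalkPull i (closedPt k) P))).symm

include f hx in
/-- The unit is bijective on stalks over a closed point with a single preimage. -/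
theorem bijective_stalk_unit_closed {Ω : Type u} [Field Ω] [IsAlgClosed Ω] (η : Spec (CommRingCat.of Ω) ⟶ X)
    (hη : η default = x) (z : {z : X' // ν z = x}) (hz : ∀ w, w = z) (F : EtCoh.Ab X) :
    Function.Bijective ((EtCoh.stalk η).map ((EtCoh.pullPushAdj ν).unit.app F)) := by
  let e := liftsEquiv f ν hx η hη
  let l := e.symm z
  have hl : ∀ l' : fLifts ν η, l' = l := fun l' => e.injective ((hz _).trans (e.apply_symm_apply z).symm)
  have h := FinBirat24.bijective_stalk_unit ν l.1 (fun l' hl' => congrArg Subtype.val (hl ⟨l', hl'.trans l.2⟩)) F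
  rwa [l.2] at h

end Groth.Agent.OneNode19

namespace Groth.Agent.OneNode19

open Groth.Agent EtStalk

variable {k : Type u} [Field k] [IsAlgClosed k] {X : Scheme.{u}} [X.Over (Spec (CommRingCat.of k))]
  [IsProper (X ↘ Spec (CommRingCat.of k))] [IsIntegral X]
  [QuasiCompact (X.fromSpecStalk (genericPoint X))] [QuasiSeparated (X.fromSpecStalk (genericPoint X))]

theorem main (hdim : topologicalKrullDim X = 1) (hnodal : Curv2.AtWorstNodal k X)
    (hone : Nat.card {x : X // Curv2.IsNode k X x} = 1)
    [PreservesFiniteLimits (EtCoh.pull (Curv2.normalizationι X))] (n : ℕ) (hn : 1 ≤ n) (hnk : (n : k) ≠ 0) :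
    Function.Surjective (EtCore.Hpull (Curv2.normalizationι X) (EtCoh.mu X n) 1) ∧
    Nat.card (EtCore.Hpull (Curv2.normalizationι X) (EtCoh.mu X n) 1).ker = n := by
  classical
  let f := X ↘ Spec (CommRingCat.of k)
  haveI : LocallyOfFiniteType f := inferInstance
  haveI : IsSeparated f := inferInstance
  haveI : NeZero n := ⟨by omega⟩
  obtain ⟨hfin, hdom, ⟨U, hUne, hUiso⟩, hint, hnor⟩ := S1585.result k X
  let ν := Curv2.normalizationι X
  haveI : IsFinite ν := hfin
  haveI := hdom
  haveI := hUiso
  haveI := hint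
  haveI : IsLocallyNoetherian X := LocallyOfFiniteType.isLocallyNoetherian f
  haveI : CompactSpace X := QuasiCompact.compactSpace_of_compactSpace f
  haveI : QuasiSeparatedSpace X := quasiSeparatedSpace_of_quasiSeparated f
  have hU : ∀ y : X, ¬ IsClosed ({y} : Set X) → y ∈ U := fun y hy => by
    by_cases h : y = genericPoint X
    · rw [h]; exact ((genericPoint_spec X).mem_open_set_iff U.isOpen).mpr (by simpa using hUne)
    · exact absurd (AmpleFin18.isClosed_of_ne_genericPoint hdim.le h) hy
  have hsurjν : Function.Surjective ν := fun y => by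
    have : Set.range ν = Set.univ :=
      (ν.isClosedMap.isClosed_range).closure_eq ▸ hdom.denseRange.closure_range
    exact Set.range_eq_univ.1 this y
  obtain ⟨⟨x, hnode⟩, huniq⟩ : ∃ a : {x : X // Curv2.IsNode k X x}, ∀ b, b = a := by
    haveI hss := (Nat.card_eq_one_iff_unique.1 hone).1
    obtain ⟨a⟩ := (Nat.card_eq_one_iff_unique.1 hone).2
    exact ⟨a, fun b => Subsingleton.elim b a⟩
  have hx : IsClosed ({x} : Set X) := hnode.1
  have htwo : Nat.card {z : Curv2.normalization X // ν z = x} = 2 := by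
    have h := (NormRed18.branches_eq X x).1
    rw [show Brnch.numBranchesAt X x = 2 from
      StabUniq18.numBranches_node hnode (Curve17.ringKrullDim_stalk hdim hx)] at h
    show ENat.toNat (ENat.card _) = 2
    rw [← h]
    rfl
  have hcomp : ∀ Z ∈ irreducibleComponents (X : Type u), topologicalKrullDim Z = 1 := fun Z hZ => by
    have hZu : Z = Set.univ :=
      Set.Subset.antisymm (Set.subset_univ _) (hZ.2 (IrreducibleSpace.isIrreducible_univ _) (Set.subset_univ _))
    subst hZu
    rw [IsHomeomorph.topologicalKrullDim_eq _ (Homeomorph.Set.univ ↥X).isHomeomorph, hdim]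
  have hUd : Dense (U : Set X) := U.isOpen.dense hUne
  have hUd' : Dense ((ν ⁻¹ᵁ U : (Curv2.normalization X).Opens) : Set (Curv2.normalization X)) :=
    (ν ⁻¹ᵁ U).isOpen.dense (hUne.preimage hsurjν)
  obtain ⟨μ⟩ := CurveExt19.nonempty_mu_iso f hn hnk
  let F := EtCoh.mu X n
  let a := (EtCoh.pullPushAdj ν).unit.app F
  haveI : Mono a := EtAcyc24.mono_unit_of_surjective ν hsurjν F
  let S := ShortComplex.mk a (cokernel.π a) (cokernel.condition a)
  have hS : S.ShortExact := { exact := ShortComplex.exact_cokernel a }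
  -- the cokernel lives at the node
  have hP : ∀ (Ω : Type u) [Field Ω] [IsAlgClosed Ω] (ξ : Spec (CommRingCat.of Ω) ⟶ X), ξ default ≠ x →
      Subsingleton ((EtCoh.stalk ξ).obj (cokernel a)) := fun Ω _ _ ξ hξ => by
    by_cases hc : IsClosed ({ξ default} : Set X)
    · obtain ⟨z, hz, hw, -⟩ := TFNorm27.exists_preimage k ν hcomp hnodal hnor U hUd hUd'
        (x := ξ default) fun h => hξ (congrArg Subtype.val (huniq ⟨_, h⟩))
      have hb := bijective_stalk_unit_closed f ν hc ξ rfl ⟨z, hz⟩
        (fun w => Subtype.ext (hw w.1 (w.2.trans hz.symm))) F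
      have hT := hS.map_of_exact (EtCoh.stalk ξ)
      refine subsingleton_of_forall_eq 0 fun p => ?_
      obtain ⟨b, rfl⟩ := (AddCommGrpCat.epi_iff_surjective _).1 hT.epi_g p
      obtain ⟨c, rfl⟩ := hb.2 b
      exact ConcreteCategory.congr_hom (S.map (EtCoh.stalk ξ)).zero c
    · haveI : PreservesFiniteLimits (EtCoh.pull U.ι) := EtStalk.preservesFiniteLimits_pull _
      haveI : PreservesColimitsOfSize.{0, 0} (EtCoh.pull U.ι) :=
        (EtCoh.pullPushAdj U.ι).leftAdjoint_preservesColimits
      haveI := FinBirat24.isIso_pull_unit ν U F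
      haveI : (EtCoh.pull U.ι).Additive := (EtCoh.pullPushAdj U.ι).left_adjoint_additive
      exact AddCommGrpCat.subsingleton_of_isZero (FinBirat24.isZero_stalk_of_pull U
        ((isZero_cokernel_of_epi ((EtCoh.pull U.ι).map a)).of_iso (PreservesCokernel.iso (EtCoh.pull U.ι) a))
        ξ (hU _ hc))
  let η := closedPt k ≫ pointOfClosedPoint f x hx
  have hη : η default = x := by rw [Scheme.Hom.comp_apply]; exact pointOfClosedPoint_apply f x hx _
  have hP0 : Nat.card (EtCoh.H X (cokernel a) 0) = n := by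
    rw [card_H0_single f hx (cokernel a) hP]
    have hT := hS.map_of_exact (EtCoh.stalk η)
    have h1 := CurveOpen32.card_of_exact (S.map (EtCoh.stalk η)).f.hom (S.map (EtCoh.stalk η)).g.hom
      ((AddCommGrpCat.epi_iff_surjective _).1 hT.epi_g)
      ((ShortComplex.ab_exact_iff_ker_le_range.1 hT.exact).antisymm
        (by rintro _ ⟨b, rfl⟩; exact ConcreteCategory.congr_hom (S.map (EtCoh.stalk η)).zero b))
    have hF : Nat.card ((EtCoh.stalk η).obj F) = n := by
      rw [card_stalk_iso η μ, card_stalk_const η (ZMod n), Nat.card_zmod]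
    have hinj : Function.Injective (S.map (EtCoh.stalk η)).f.hom := (AddCommGrpCat.mono_iff_injective _).1 hT.mono_f
    rw [(AddMonoidHom.ker_eq_bot_iff _).2 hinj, Nat.card_congr (QuotientAddGroup.quotientBot).toEquiv] at h1
    have h2 : n * n = n * Nat.card ((EtCoh.stalk η).obj (cokernel a)) := by
      refine Eq.trans ?_ (h1.trans (congrArg (· * _) hF))
      show n * n = Nat.card ((EtCoh.stalk η).obj ((EtCoh.push ν).obj ((EtCoh.pull ν).obj F)))
      rw [card_stalk_push_pull f ν hx η hη F, hF, htwo, pow_two]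
    exact (Nat.eq_of_mul_eq_mul_left (show 0 < n by omega) h2).symm
  have e : ∀ q (b : EtCoh.H X F q), EtCore.Hpull ν F q b =
      EtLim.HofPush ν ((EtCoh.pull ν).obj F) q (b.comp (Ext.mk₀ a) (add_zero q)) :=
    fun q b => (FieldH25.HofPush_unit ν F q b).symm
  have h0 : Function.Surjective (fun b : EtCoh.H X F 0 => b.comp (Ext.mk₀ a) (add_zero 0)) := fun b => by
    obtain ⟨c, hc⟩ := (ASLef19.bijective_Hpull_zero_connected ν (ZMod n)).2
      ((EtLim.HofPush ν ((EtCoh.pull ν).obj F) 0 b).comp (Ext.mk₀ ((EtCoh.pull ν).map μ.hom)) (add_zero 0))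
    refine ⟨c.comp (Ext.mk₀ μ.inv) (add_zero 0), (FieldH25.bijective_HofPush_integral ν ((EtCoh.pull ν).obj F) 0).1 ?_⟩
    rw [← e, ← LocAcyc24.Hpull_nat, hc, Ext.comp_assoc_of_third_deg_zero, Ext.mk₀_comp_mk₀, ← Functor.map_comp,
      μ.hom_inv_id, CategoryTheory.Functor.map_id, Ext.comp_mk₀_id]
  refine ⟨(FinBirat24.Hpull_bijective ν U hU
    (fun y => CurveConn25.isSepClosed_residueField f y.1 y.2) F 0).1, ?_⟩
  let δ : EtCoh.H X (cokernel a) 0 → (EtCore.Hpull ν F 1).ker := fun c => ⟨c.comp hS.extClass rfl, by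
    rw [AddMonoidHom.mem_ker, e, Ext.comp_assoc_of_third_deg_zero]
    erw [hS.extClass_comp]
    rw [Ext.comp_zero, map_zero]⟩
  rw [← Nat.card_eq_of_bijective δ ⟨fun c c' h => ?_, fun y => ?_⟩, hP0]
  · have h' : (c - c').comp hS.extClass rfl = 0 := by
      refine (map_sub (hS.extClass.postcomp _ rfl) c c').trans (sub_eq_zero.2 ?_)
      exact congrArg Subtype.val h
    obtain ⟨d, hd⟩ := Ext.covariant_sequence_exact₃ _ hS (c - c') rfl h'
    obtain ⟨b, rfl⟩ := h0 d
    rw [Ext.comp_assoc_of_third_deg_zero, Ext.mk₀_comp_mk₀, S.zero, Ext.mk₀_zero, Ext.comp_zero] at hd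
    exact sub_eq_zero.1 hd.symm
  · obtain ⟨c, hc⟩ := Ext.covariant_sequence_exact₁ _ hS y.1
      ((FieldH25.bijective_HofPush_integral ν ((EtCoh.pull ν).obj F) 1).1
        ((e 1 y.1).symm.trans ((AddMonoidHom.mem_ker.1 y.2).trans (map_zero _).symm))) (n₀ := 0) rfl
    exact ⟨c, Subtype.ext hc⟩

end Groth.Agent.OneNode19
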